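import Cfsg.Agent.Lib.Steiner22.Reconstruct
import Cfsg.Agent.Lib.GolayUnique.Models

/-!
Isomorphisms of point-block graphs and the uniqueness of the (100,22,0,6) graph.
-/

set_option autoImplicit false
set_option linter.unusedSectionVars false

namespace Cfsg.Agent.Lib.Steiner22

variable {α β : Type*} [DecidableEq α] [Fintype α] [DecidableEq β] [Fintype β]
  {B : Set (Finset α)} {B' : Set (Finset β)}

/-- The bijection of blocks induced by a bijection of points. -/
def blockEquiv (f : α ≃ β) (hf : ∀ b, b ∈ B ↔ b.map f.toEmbedding ∈ B') : B ≃ B' where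
  toFun b := ⟨b.1.map f.toEmbedding, (hf b.1).mp b.2⟩
  invFun c := ⟨c.1.map f.symm.toEmbedding, (hf _).mpr (by
    rw [Finset.map_map]; simpa using c.2)⟩
  left_inv b := Subtype.ext (by simp [Finset.map_map])
  right_inv c := Subtype.ext (by simp [Finset.map_map])

/-- The bijection of vertices induced by a bijection of points. -/
def vertexEquiv (f : α ≃ β) (hf : ∀ b, b ∈ B ↔ b.map f.toEmbedding ∈ B') :
    Option (α ⊕ B) ≃ Option (β ⊕ B') :=
  Equiv.optionCongr (Equiv.sumCongr f (blockEquiv f hf))

/-- The graph isomorphism induced by an isomorphism of the systems. -/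
def graphIso (hB : IsSteinerSystem 3 6 B) (hB' : IsSteinerSystem 3 6 B') (f : α ≃ β)
    (hf : ∀ b, b ∈ B ↔ b.map f.toEmbedding ∈ B') : pointBlockGraph B ≃g pointBlockGraph B' where
  toEquiv := vertexEquiv f hf
  map_rel_iff' {p q} := by
    rcases p with _ | x | b <;> rcases q with _ | y | c <;>
      simp only [vertexEquiv, Equiv.optionCongr_apply, Option.map_none, Option.map_some,
        Equiv.sumCongr_apply, Sum.map_inl, Sum.map_inr]
    · simp [pointBlockGraph]
    · exact iff_of_true (adj_none_point _ _) (adj_none_point _ _)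
    · exact iff_of_false (adj_none_block _ _) (adj_none_block _ _)
    · exact iff_of_true (adj_none_point _ _).symm (adj_none_point _ _).symm
    · exact iff_of_false (adj_point_point _ _ _) (adj_point_point _ _ _)
    · rw [adj_point_block, adj_point_block]
      exact Finset.mem_map' f.toEmbedding
    · exact iff_of_false (fun e => adj_none_block _ _ e.symm) (fun e => adj_none_block _ _ e.symm)
    · rw [(pointBlockGraph _).adj_comm, adj_point_block, (pointBlockGraph _).adj_comm,
        adj_point_block]
      exact Finset.mem_map' f.toEmbedding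
    · rw [adj_block_block hB', adj_block_block hB]
      exact Finset.disjoint_map _

theorem exists_graphIso (hα : Fintype.card α = 22) (hβ : Fintype.card β = 22)
    (hB : IsSteinerSystem 3 6 B) (hB' : IsSteinerSystem 3 6 B') :
    ∃ e : pointBlockGraph B ≃g pointBlockGraph B', e none = none := by
  obtain ⟨ι, h⟩ := GolayUnique.Derived.exists_model22 hα hB
  obtain ⟨κ, h'⟩ := GolayUnique.Derived.exists_model22 hβ hB'
  obtain ⟨f, hf⟩ := h.iso h'
  exact ⟨graphIso hB hB' f hf, rfl⟩

variable {V W : Type*} [Fintype V] [Fintype W]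

theorem exists_iso_srg {G : SimpleGraph V} {H : SimpleGraph W} [DecidableRel G.Adj]
    [DecidableRel H.Adj] (hG : G.IsSRGWith 100 22 0 6) (hH : H.IsSRGWith 100 22 0 6)
    (v : V) (w : W) : ∃ e : G ≃g H, e v = w := by
  classical
  obtain ⟨e, he⟩ := exists_graphIso (card_nbr hG v) (card_nbr hH w) (steiner_blk hG v)
    (steiner_blk hH w)
  refine ⟨((reconstructIso hG v).symm.trans e).trans (reconstructIso hH w), ?_⟩
  show reconstructIso hH w (e ((reconstructIso hG v).symm v)) = w
  rw [show (reconstructIso hG v).symm v = none from (reconstructIso hG v).symm_apply_apply none, he]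
  rfl

end Cfsg.Agent.Lib.Steiner22
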