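import Cfsg.Agent.Lib.Steiner22.Graphs

/-!
A strongly regular graph (100,22,0,6) is the point-block graph of an S(3,6,22) at any vertex.
-/

set_option autoImplicit false
set_option linter.unusedSectionVars false

namespace Cfsg.Agent.Lib.Steiner22

open Finset

variable {V : Type*} [Fintype V] [DecidableEq V] {G : SimpleGraph V} [DecidableRel G.Adj]

/-- The neighbours of the base vertex. -/
abbrev Nbr (G : SimpleGraph V) (v : V) : Type _ := {x : V // G.Adj v x}

/-- The block cut out by a vertex. -/
def blk (G : SimpleGraph V) [DecidableRel G.Adj] (v w : V) : Finset (Nbr G v) :=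
  univ.filter fun x => G.Adj w x.1

/-- The vertices at distance two from the base vertex. -/
def far (G : SimpleGraph V) [DecidableRel G.Adj] (v : V) : Finset V :=
  univ.filter fun w => w ≠ v ∧ ¬ G.Adj v w

theorem mem_blk {v w : V} {x : Nbr G v} : x ∈ blk G v w ↔ G.Adj w x.1 := by simp [blk]

theorem mem_far {v w : V} : w ∈ far G v ↔ w ≠ v ∧ ¬ G.Adj v w := by simp [far]

variable (h : G.IsSRGWith 100 22 0 6)
include h

theorem deg (u : V) : (univ.filter fun z => G.Adj u z).card = 22 := by
  rw [← SimpleGraph.neighborFinset_eq_filter, SimpleGraph.card_neighborFinset_eq_degree]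
  exact h.regular u

theorem common_adj {u w : V} (hu : G.Adj u w) :
    (univ.filter fun z => G.Adj u z ∧ G.Adj w z).card = 0 := by
  rw [← card_commonNeighbors]; exact h.of_adj u w hu

theorem common_not_adj {u w : V} (hne : u ≠ w) (hu : ¬ G.Adj u w) :
    (univ.filter fun z => G.Adj u z ∧ G.Adj w z).card = 6 := by
  rw [← card_commonNeighbors]; exact h.of_not_adj hne hu

theorem no_triangle' {a b c : V} (hab : G.Adj a b) (hac : G.Adj a c) : ¬ G.Adj b c := fun hbc => by
  have := common_adj h hbc
  rw [Finset.card_eq_zero, Finset.filter_eq_empty_iff] at this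
  exact this (Finset.mem_univ a) ⟨hab.symm, hac.symm⟩

theorem card_nbr (v : V) : Fintype.card (Nbr G v) = 22 := by
  rw [Fintype.card_subtype]; exact deg h v

theorem card_far (v : V) : (far G v).card = 77 := by
  have e : far G v = (univ.filter fun z => ¬ G.Adj v z).erase v := by ext; simp [far]
  rw [e, Finset.card_erase_of_mem (by simp)]
  have := Finset.card_filter_add_card_filter_not (s := (univ : Finset V)) (fun z => G.Adj v z)
  rw [deg h v, Finset.card_univ, h.card] at this
  omega

theorem card_blk {v w : V} (hw : w ∈ far G v) : (blk G v w).card = 6 := by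
  rw [mem_far] at hw
  rw [← Finset.card_map (Function.Embedding.subtype _), ← common_not_adj h (Ne.symm hw.1) hw.2]
  congr 1
  ext z
  simp [blk, and_comm]

theorem card_far_nbr {v : V} (x : Nbr G v) :
    ((far G v).filter fun w => G.Adj x.1 w).card = 21 := by
  have e : ((far G v).filter fun w => G.Adj x.1 w) = (univ.filter fun z => G.Adj x.1 z).erase v := by
    ext z
    simp only [Finset.mem_filter, mem_far, Finset.mem_erase, Finset.mem_univ, true_and]
    exact ⟨fun hz => ⟨hz.1.1, hz.2⟩,
      fun hz => ⟨⟨hz.1, fun hvz => no_triangle' h x.2 hvz hz.2⟩, hz.2⟩⟩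
  rw [e, Finset.card_erase_of_mem (by simpa using x.2.symm), deg h]

theorem card_far_pair {v : V} {x y : Nbr G v} (hxy : x ≠ y) :
    ((far G v).filter fun w => G.Adj x.1 w ∧ G.Adj y.1 w).card = 5 := by
  have e : ((far G v).filter fun w => G.Adj x.1 w ∧ G.Adj y.1 w) =
      (univ.filter fun z => G.Adj x.1 z ∧ G.Adj y.1 z).erase v := by
    ext z
    simp only [Finset.mem_filter, mem_far, Finset.mem_erase, Finset.mem_univ, true_and]
    exact ⟨fun hz => ⟨hz.1.1, hz.2⟩,
      fun hz => ⟨⟨hz.1, fun hvz => no_triangle' h x.2 hvz hz.2.1⟩, hz.2⟩⟩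
  rw [e, Finset.card_erase_of_mem (by simpa using ⟨x.2.symm, y.2.symm⟩),
    common_not_adj h (fun e' => hxy (Subtype.ext e')) (no_triangle' h x.2 y.2)]

theorem blk_inter {v w w' : V} (hw : w ∈ far G v) (hw' : w' ∈ far G v) (hne : w ≠ w') :
    (G.Adj w w' → (blk G v w ∩ blk G v w').card = 0) ∧
      (¬ G.Adj w w' → (blk G v w ∩ blk G v w').card = 2) := by
  refine ⟨fun hadj => ?_, fun hadj => ?_⟩
  · rw [Finset.card_eq_zero, Finset.eq_empty_iff_forall_notMem]
    intro x hx
    rw [Finset.mem_inter, mem_blk, mem_blk] at hx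
    exact no_triangle' h hx.1.symm hx.2.symm hadj
  set T := (far G v).filter fun u => u ≠ w ∧ ¬ G.Adj w u with hT
  have hwT : w' ∈ T := Finset.mem_filter.mpr ⟨hw', Ne.symm hne, hadj⟩
  have hTc : T.card = 60 := by
    have e1 : ((far G v).filter fun u => G.Adj w u).card = 16 := by
      have hsplit := Finset.card_filter_add_card_filter_not
        (s := univ.filter fun z => G.Adj w z) (fun z => G.Adj v z)
      rw [deg h w, Finset.filter_filter, Finset.filter_filter] at hsplit
      have hc := common_not_adj h (Ne.symm (mem_far.mp hw).1) (mem_far.mp hw).2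
      have e2 : (univ.filter fun z => G.Adj w z ∧ G.Adj v z) =
          univ.filter fun z => G.Adj v z ∧ G.Adj w z := by simp only [and_comm]
      have e3 : (univ.filter fun z => G.Adj w z ∧ ¬ G.Adj v z) =
          (far G v).filter fun u => G.Adj w u := by
        ext z
        simp only [Finset.mem_filter, Finset.mem_univ, true_and, mem_far]
        exact ⟨fun hz => ⟨⟨fun e => (mem_far.mp hw).2 (e ▸ hz.1).symm, hz.2⟩, hz.1⟩,
          fun hz => ⟨hz.2, hz.1.2⟩⟩
      rw [e2, hc, e3] at hsplit
      omega
    have e : T = ((far G v).filter fun u => ¬ G.Adj w u).erase w := by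
      ext u; simp only [hT, Finset.mem_filter, Finset.mem_erase]; tauto
    rw [e, Finset.card_erase_of_mem (Finset.mem_filter.mpr ⟨hw, G.loopless.irrefl w⟩)]
    have := Finset.card_filter_add_card_filter_not (s := far G v) (fun u => G.Adj w u)
    rw [card_far h, e1] at this
    omega
  have cnt : ∀ (p : Finset (Nbr G v)) (c : ℕ), p ⊆ blk G v w → p.Nonempty →
      ((far G v).filter fun u => p ⊆ blk G v u).card = c →
      (T.filter fun u => p ⊆ blk G v u).card = c - 1 := by
    intro p c hpw hp hc
    obtain ⟨x, hx⟩ := hp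
    rw [← hc, ← Finset.card_erase_of_mem (Finset.mem_filter.mpr ⟨hw, hpw⟩)]
    congr 1
    ext u
    simp only [hT, Finset.mem_filter, Finset.mem_erase]
    exact ⟨fun hu => ⟨hu.1.2.1, hu.1.1, hu.2⟩, fun hu => ⟨⟨hu.2.1, hu.1, fun hwu =>
      no_triangle' h (mem_blk.mp (hpw hx)).symm (mem_blk.mp (hu.2.2 hx)).symm hwu⟩, hu.2.2⟩⟩
  have sum1 : ∑ u ∈ T, (blk G v w ∩ blk G v u).card = 120 := by
    have e : ∀ u, (blk G v w ∩ blk G v u).card =
        ∑ x ∈ blk G v w, if {x} ⊆ blk G v u then 1 else 0 := fun u => by
      rw [← Finset.card_filter]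
      congr 1; ext x; simp
    rw [Finset.sum_congr rfl fun u _ => e u, Finset.sum_comm,
      Finset.sum_congr rfl fun x hx =>
        (show (∑ u ∈ T, if {x} ⊆ blk G v u then 1 else 0) = 20 by
          rw [← Finset.card_filter]
          refine (cnt {x} 21 (by simpa using hx) (by simp) ?_)
          rw [← card_far_nbr h x]
          congr 1; ext u; simp [mem_blk, SimpleGraph.adj_comm]),
      Finset.sum_const, card_blk h hw]
    rfl
  have sum2 : ∑ u ∈ T, ((blk G v w ∩ blk G v u).powersetCard 2).card = 60 := by
    have e : ∀ u, ((blk G v w ∩ blk G v u).powersetCard 2).card =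
        ∑ p ∈ (blk G v w).powersetCard 2, if p ⊆ blk G v u then 1 else 0 := fun u => by
      rw [← Finset.card_filter]
      congr 1
      ext p
      simp only [Finset.mem_powersetCard, Finset.mem_filter, Finset.subset_inter_iff]
      tauto
    rw [Finset.sum_congr rfl fun u _ => e u, Finset.sum_comm,
      Finset.sum_congr rfl fun p hp =>
        (show (∑ u ∈ T, if p ⊆ blk G v u then 1 else 0) = 4 by
          rw [Finset.mem_powersetCard] at hp
          obtain ⟨a, b, hab, rfl⟩ := Finset.card_eq_two.mp hp.2
          rw [← Finset.card_filter]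
          refine (cnt {a, b} 5 hp.1 (by simp) ?_)
          rw [← card_far_pair h hab]
          congr 1; ext u; simp [mem_blk, Finset.insert_subset_iff, SimpleGraph.adj_comm]),
      Finset.sum_const, Finset.card_powersetCard, card_blk h hw]
    rfl
  have hid : ∀ n : ℕ, 2 * n.choose 2 + n = n * n := fun n => by
    induction n with
    | zero => rfl
    | succ n ih =>
      rw [Nat.choose_succ_succ', Nat.choose_one_right]
      simp only [add_mul, mul_add, one_mul, mul_one, Nat.reduceAdd] at *; omega
  have key : ∑ u ∈ T, 4 * (blk G v w ∩ blk G v u).card =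
      ∑ u ∈ T, ((blk G v w ∩ blk G v u).card * (blk G v w ∩ blk G v u).card + 4) := by
    rw [Finset.sum_add_distrib, Finset.sum_const, hTc, ← Finset.mul_sum, sum1,
      Finset.sum_congr rfl fun u _ => (hid (blk G v w ∩ blk G v u).card).symm,
      Finset.sum_add_distrib, ← Finset.mul_sum, sum1,
      Finset.sum_congr rfl fun u _ => (Finset.card_powersetCard 2 (blk G v w ∩ blk G v u)).symm,
      sum2]
    rfl
  have := (Finset.sum_eq_sum_iff_of_le (fun u _ => by
    nlinarith [sq_nonneg (((blk G v w ∩ blk G v u).card : ℤ) - 2)])).mp key w' hwT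
  nlinarith [this]

theorem blk_injOn {v w w' : V} (hw : w ∈ far G v) (hw' : w' ∈ far G v)
    (he : blk G v w = blk G v w') : w = w' := by
  by_contra hne
  obtain ⟨h0, h2⟩ := blk_inter h hw hw' hne
  rw [he, Finset.inter_self, card_blk h hw'] at h0 h2
  by_cases ha : G.Adj w w'
  · exact absurd (h0 ha) (by norm_num)
  · exact absurd (h2 ha) (by norm_num)

theorem steiner_blk (v : V) :
    IsSteinerSystem 3 6 (blk G v '' (far G v : Set V)) := by
  refine ⟨?_, fun s hs => ?_⟩
  · rintro _ ⟨w, hw, rfl⟩; exact card_blk h hw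
  have huniq : ∀ w ∈ far G v, ∀ w' ∈ far G v, ∀ s : Finset (Nbr G v), s.card = 3 →
      s ⊆ blk G v w → s ⊆ blk G v w' → w = w' := by
    intro w hw w' hw' t ht h1 h2
    by_contra hne
    obtain ⟨a, b⟩ := blk_inter h hw hw' hne
    have := ht ▸ Finset.card_le_card (Finset.subset_inter h1 h2)
    by_cases ha : G.Adj w w'
    · have := a ha; omega
    · have := b ha; omega
  have hP : (far G v).biUnion (fun w => (blk G v w).powersetCard 3) = univ.powersetCard 3 := by
    refine Finset.eq_of_subset_of_card_le (fun t ht => ?_) ?_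
    · simp only [Finset.mem_biUnion, Finset.mem_powersetCard] at ht ⊢
      exact ⟨Finset.subset_univ _, ht.choose_spec.2.2⟩
    · rw [Finset.card_biUnion, Finset.sum_congr rfl fun w hw => by
        rw [Finset.card_powersetCard, card_blk h hw], Finset.sum_const, card_far h,
        Finset.card_powersetCard, Finset.card_univ, card_nbr h]
      · decide
      · intro w hw w' hw' hne
        rw [Function.onFun, Finset.disjoint_left]
        intro t h1 h2
        rw [Finset.mem_powersetCard] at h1 h2
        exact hne (huniq w hw w' hw' t h1.2 h1.1 h2.1)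
  have hmem : s ∈ (far G v).biUnion (fun w => (blk G v w).powersetCard 3) := by
    rw [hP]; simp [hs]
  simp only [Finset.mem_biUnion, Finset.mem_powersetCard] at hmem
  obtain ⟨w, hw, hsw, -⟩ := hmem
  refine ⟨blk G v w, ⟨⟨w, hw, rfl⟩, hsw⟩, ?_⟩
  rintro _ ⟨⟨w', hw', rfl⟩, hsw'⟩
  rw [huniq w hw w' hw' s hs hsw hsw']

/-- The vertex cutting out a block. -/
noncomputable def pick {v : V} (b : ↥(blk G v '' (far G v : Set V))) : V := b.2.choose

/-- The vertices as base vertex, neighbours and blocks. -/
noncomputable def vertexMap (v : V) :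
    Option (Nbr G v ⊕ ↥(blk G v '' (far G v : Set V))) → V
  | none => v
  | some (Sum.inl x) => x.1
  | some (Sum.inr b) => pick b

omit h in
theorem choose_spec' {v : V} (b : ↥(blk G v '' (far G v : Set V))) :
    pick b ∈ far G v ∧ blk G v (pick b) = b.1 := b.2.choose_spec

theorem vertexMap_bijective (v : V) : Function.Bijective (vertexMap (G := G) v) := by
  have hs := @choose_spec' V _ _ G _ v
  constructor
  · rintro (_ | x | b) (_ | y | c) e <;> simp only [vertexMap] at e
    · rfl
    · exact absurd y.2 (by rw [← e]; exact G.loopless.irrefl v)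
    · exact absurd e.symm (mem_far.mp (hs c).1).1
    · exact absurd x.2 (by rw [e]; exact G.loopless.irrefl v)
    · rw [Subtype.ext e]
    · exact absurd (e ▸ x.2) (mem_far.mp (hs c).1).2
    · exact absurd e (mem_far.mp (hs b).1).1
    · exact absurd (e.symm ▸ y.2) (mem_far.mp (hs b).1).2
    · congr 2
      exact Subtype.ext (by rw [← (hs b).2, ← (hs c).2, e])
  · intro z
    by_cases h1 : z = v
    · exact ⟨none, h1.symm⟩
    by_cases h2 : G.Adj v z
    · exact ⟨some (Sum.inl ⟨z, h2⟩), rfl⟩
    · have hz : z ∈ far G v := mem_far.mpr ⟨h1, h2⟩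
      exact ⟨some (Sum.inr ⟨_, z, hz, rfl⟩),
        blk_injOn h (hs ⟨_, z, hz, rfl⟩).1 hz (hs ⟨_, z, hz, rfl⟩).2⟩

/-- The graph at a vertex is the point-block graph of the blocks cut out there. -/
noncomputable def reconstructIso (v : V) :
    pointBlockGraph (blk G v '' (far G v : Set V)) ≃g G where
  toEquiv := Equiv.ofBijective _ (vertexMap_bijective h v)
  map_rel_iff' {p q} := by
    have hs := @choose_spec' V _ _ G _ v
    have hB := steiner_blk h v
    show G.Adj (vertexMap v p) (vertexMap v q) ↔ _
    rcases p with _ | x | b <;> rcases q with _ | y | c <;> simp only [vertexMap]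
    · simp [pointBlockGraph]
    · exact iff_of_true y.2 (adj_none_point _ y)
    · exact iff_of_false (mem_far.mp (hs c).1).2 (adj_none_block _ c)
    · exact iff_of_true x.2.symm (adj_none_point _ x).symm
    · exact iff_of_false (no_triangle' h x.2 y.2) (adj_point_point _ x y)
    · rw [adj_point_block, ← (hs c).2, mem_blk]; exact G.adj_comm _ _
    · exact iff_of_false (fun e => (mem_far.mp (hs b).1).2 e.symm)
        (fun e => adj_none_block _ b e.symm)
    · rw [(pointBlockGraph _).adj_comm, adj_point_block, ← (hs b).2, mem_blk]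
    · rw [adj_block_block hB]
      rcases eq_or_ne b c with rfl | hbc
      · exact iff_of_false (G.loopless.irrefl _) fun e => block_ne_of_disjoint hB e rfl
      have hne : pick b ≠ pick c := fun e =>
        hbc (Subtype.ext (by rw [← (hs b).2, ← (hs c).2, e]))
      obtain ⟨a0, a2⟩ := blk_inter h (hs b).1 (hs c).1 hne
      rw [(hs b).2, (hs c).2] at a0 a2
      rw [Finset.disjoint_iff_inter_eq_empty, ← Finset.card_eq_zero]
      exact ⟨a0, fun e => by_contra fun hn => by rw [a2 hn] at e; norm_num at e⟩

theorem reconstructIso_none (v : V) : reconstructIso h v none = v := rfl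

end Cfsg.Agent.Lib.Steiner22
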