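import Cfsg.Agent.Lib.Steiner22.AutGraph
import Cfsg.Agent.Lib.Golay.Simple

/-!
The kernel of the sign on the vertices of the point-block graph is simple.
-/

set_option autoImplicit false
set_option linter.unusedSectionVars false

namespace Cfsg.Agent.Lib.Steiner22

open GolayUnique GolayUnique.Derived

variable {α : Type*} [DecidableEq α] [Fintype α] {B : Set (Finset α)}

/-- Any three points of the small space can be mapped to any three by the two-point stabiliser. -/
theorem exists_M22_three {ι : α ↪ GolayPt} (h : IsModel {none, some 0} 6 B ι) (x y : Fin 3 ↪ α) :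
    ∃ m ∈ Spor.M22, ∀ i, m (ι (x i)) = ι (y i) := by
  have mk : ∀ z : Fin 3 ↪ α, Function.Injective
      (Fin.append (fun i => ι (z i)) ![(none : GolayPt), some 0]) := fun z => by
    rw [Fin.append_injective_iff]
    refine ⟨ι.injective.comp z.injective, injective_pair_iff_ne.mpr (by simp), fun i j e => ?_⟩
    refine h.compl.notMem (z i) ?_
    rw [e]
    fin_cases j <;> simp
  obtain ⟨m, hm, he⟩ := Golay.exists_map_tuple (n := 3 + 2) le_rfl ⟨_, mk x⟩ ⟨_, mk y⟩
  have h1 : m none = none := by
    have := he (Fin.natAdd 3 0)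
    simp only [Function.Embedding.coeFn_mk, Fin.append_right] at this
    exact this
  have h2 : m (some 0) = some 0 := by
    have := he (Fin.natAdd 3 1)
    simp only [Function.Embedding.coeFn_mk, Fin.append_right] at this
    exact this
  refine ⟨m, ⟨⟨hm, h1⟩, h2⟩, fun i => ?_⟩
  simpa [Fin.append_left] using he (Fin.castAdd 2 i)

theorem no_orbit_of_size_five_squared {V : Type*} (N : Type*) [Group N] [Finite N]
    (hN : Nat.card N = 100) (f : N → V) (hf : Function.Injective f) :
    {x | ∃ n : N, n ^ 25 = 1 ∧ f n = x}.ncard = 25 := by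
  haveI : Fact (Nat.Prime 5) := ⟨by norm_num⟩
  obtain ⟨P⟩ : Nonempty (Sylow 5 N) := inferInstance
  have hmul := (P : Subgroup N).card_mul_index
  have hnd := P.not_dvd_index
  rw [hN] at hmul
  obtain ⟨k, hk⟩ := IsPGroup.iff_card.mp P.isPGroup'
  have hk2 : k = 2 := by
    rcases Nat.lt_or_ge 2 k with hlt | hle
    · have : 5 ^ 3 ∣ 100 := (pow_dvd_pow 5 hlt).trans ⟨_, (hk ▸ hmul).symm⟩
      norm_num at this
    · interval_cases k
      · rw [hk, pow_zero, one_mul] at hmul; rw [hmul] at hnd; norm_num at hnd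
      · rw [hk, pow_one] at hmul
        have : (P : Subgroup N).index = 20 := by omega
        rw [this] at hnd; norm_num at hnd
      · rfl
  subst hk2
  have hidx : (P : Subgroup N).index = 4 := by rw [hk] at hmul; omega
  have hone : Nat.card (Sylow 5 N) = 1 := by
    have h1 := card_sylow_modEq_one 5 N
    have h2 := P.card_dvd_index
    rw [hidx] at h2
    have := Nat.le_of_dvd (by norm_num) h2
    unfold Nat.ModEq at h1
    omega
  haveI : Subsingleton (Sylow 5 N) := (Nat.card_eq_one_iff_unique.mp hone).1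
  have hset : {x | ∃ n : N, n ^ 25 = 1 ∧ f n = x} = f '' (P : Set N) := by
    ext x
    constructor
    · rintro ⟨n, hn, rfl⟩
      refine ⟨n, ?_, rfl⟩
      obtain ⟨j, -, hj⟩ := (Nat.dvd_prime_pow (by norm_num : Nat.Prime 5)).mp
        (show orderOf n ∣ 5 ^ 2 from orderOf_dvd_of_pow_eq_one hn)
      obtain ⟨Q, hQ⟩ := (IsPGroup.of_card (G := Subgroup.zpowers n)
        (by rw [Nat.card_zpowers, hj] : Nat.card (Subgroup.zpowers n) = 5 ^ j)).exists_le_sylow
      rw [Subsingleton.elim Q P] at hQ
      exact hQ (Subgroup.mem_zpowers n)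
    · rintro ⟨n, hn, rfl⟩
      refine ⟨n, ?_, rfl⟩
      have := congrArg Subtype.val (pow_card_eq_one' (x := (⟨n, hn⟩ : (P : Subgroup N))))
      rw [hk] at this
      simpa using this
  rw [hset, Set.ncard_image_of_injective _ hf, ← Nat.card_coe_set_eq]
  exact hk

theorem exists_simple_subgroup (hα : Fintype.card α = 22) (hB : IsSteinerSystem 3 6 B) :
    ∃ H : Subgroup (GraphAut B), IsSimpleGroup H ∧ Nat.card H = 44352000 := by
  classical
  haveI : Fintype B := Fintype.ofFinite B
  obtain ⟨ι, h⟩ := exists_model22 hα hB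
  let φ := autOfModel h Finset.card_le_two fun g hg => rigid22 hα hB h hg
  have hφ : ∀ g a, ι ((φ g : Equiv.Perm α) a) = (g : Equiv.Perm GolayPt) (ι a) :=
    autOfModel_apply h Finset.card_le_two fun g hg => rigid22 hα hB h hg
  let Ψ : Spor.M22 →* GraphAut B :=
    (extendHom hB).comp (φ.toMonoidHom.comp (Subgroup.inclusion M22_le))
  haveI : IsSimpleGroup Spor.M22 := Golay.isSimple_spor_M22
  have hΨi : Function.Injective Ψ :=
    (extendHom_injective hB).comp (φ.injective.comp (Subgroup.inclusion_injective M22_le))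
  have hΨsign : ∀ m, signHom B (Ψ m) = 1 := by
    rcases ((signHom B).comp Ψ).normal_ker.eq_bot_or_eq_top with h0 | h0
    · exfalso
      have := Nat.card_le_card_of_injective _ ((MonoidHom.ker_eq_bot_iff _).mp h0)
      rw [Golay.card_spor_M22, Nat.card_eq_fintype_card, Fintype.card_units_int] at this
      omega
    · intro m
      exact MonoidHom.mem_ker.mp (h0 ▸ Subgroup.mem_top m :
        m ∈ ((signHom B).comp Ψ).ker)
  set s : GraphAut B := extendHom hB (φ ⟨projInv, projInv_stab⟩) with hs
  have hssign : signHom B s = -1 := sign_twist hα hB h φ hφ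
  have hsnone : s none = none := rfl
  have stab : ∀ a : GraphAut B, a none = none → signHom B a = 1 → ∃ m, Ψ m = a := by
    intro a ha hsg
    obtain ⟨g, rfl⟩ := exists_extend hB ha
    obtain ⟨p, rfl⟩ := φ.surjective g
    by_cases hp : p ∈ Spor.M22.subgroupOf (pointSetStab {none, some 0})
    · exact ⟨⟨p.1, hp⟩, rfl⟩
    · exfalso
      have hns : (⟨projInv, projInv_stab⟩ : pointSetStab {none, some 0}) ∉
          Spor.M22.subgroupOf (pointSetStab {none, some 0}) := fun hm =>
        absurd (projInv_pair.1.symm.trans hm.1.2) (by simp)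
      have hmem := (Subgroup.mul_mem_iff_of_index_two index_M22 (a := p)
        (b := ⟨projInv, projInv_stab⟩)).mpr (iff_of_false hp hns)
      have h1 := hΨsign ⟨_, hmem⟩
      rw [show Ψ ⟨_, hmem⟩ = extendHom hB (φ (p * ⟨projInv, projInv_stab⟩)) from rfl, map_mul,
        map_mul, map_mul, hsg, ← hs, hssign] at h1
      exact absurd h1 (by decide)
  let H : Subgroup (GraphAut B) := (signHom B).ker
  have htrans : ∀ v, ∃ a : H, (a : GraphAut B) none = v := by
    intro v
    obtain ⟨a, ha⟩ := exists_aut_to hα hB v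
    rcases Int.units_eq_one_or (signHom B a) with h1 | h1
    · exact ⟨⟨a, h1⟩, ha⟩
    · exact ⟨⟨a * s, by rw [MonoidHom.mem_ker, map_mul, h1, hssign]; decide⟩,
        by show a (s none) = v; rw [hsnone, ha]⟩
  have hcardA : Nat.card (GraphAut B) = 88704000 := by
    have e : Nat.card (setSystemAut B) = 887040 := by
      rw [← Nat.card_congr φ.toEquiv,
        ← (Spor.M22.subgroupOf (pointSetStab {none, some 0})).card_mul_index, index_M22,
        Nat.card_congr (Subgroup.subgroupOfEquivOfLe M22_le).toEquiv, Golay.card_spor_M22]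
    rw [card_graphAut hα hB, e]
  have hidx : H.index = 2 := by
    rw [Subgroup.index_ker, show (signHom B).range = ⊤ from
      MonoidHom.range_eq_top.mpr fun u => by
        rcases Int.units_eq_one_or u with rfl | rfl
        · exact ⟨1, map_one _⟩
        · exact ⟨s, hssign⟩,
      Subgroup.card_top, Nat.card_eq_fintype_card, Fintype.card_units_int]
  have hcardH : Nat.card H = 44352000 := by
    have := H.card_mul_index
    rw [hidx, hcardA] at this
    omega
  refine ⟨H, ?_, hcardH⟩
  haveI : Nontrivial H := Finite.one_lt_card_iff_nontrivial.mp (by rw [hcardH]; norm_num)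
  have hpt : ∀ (m : Spor.M22) a a', (m : Equiv.Perm GolayPt) (ι a) = ι a' →
      Ψ m (some (Sum.inl a)) = some (Sum.inl a') := fun m a a' e => by
    show some (Sum.inl ((φ (Subgroup.inclusion M22_le m) : Equiv.Perm α) a)) = _
    rw [ι.injective ((hφ (Subgroup.inclusion M22_le m) a).trans e)]
  have hblk : ∀ b c : B, ∃ m, Ψ m (some (Sum.inr b)) = some (Sum.inr c) := by
    intro b c
    obtain ⟨s₁, hs₁, hc₁⟩ := Finset.exists_subset_card_eq (show 3 ≤ (b : Finset α).card by
      rw [hB.1 _ b.2]; norm_num)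
    obtain ⟨s₂, hs₂, hc₂⟩ := Finset.exists_subset_card_eq (show 3 ≤ (c : Finset α).card by
      rw [hB.1 _ c.2]; norm_num)
    let x : Fin 3 ↪ α := ((finCongr hc₁.symm).trans s₁.equivFin.symm).toEmbedding.trans
      (Function.Embedding.subtype _)
    let y : Fin 3 ↪ α := ((finCongr hc₂.symm).trans s₂.equivFin.symm).toEmbedding.trans
      (Function.Embedding.subtype _)
    obtain ⟨m, hm, he⟩ := exists_M22_three h x y
    refine ⟨⟨m, hm⟩, congrArg (fun z => some (Sum.inr z)) (Subtype.ext ?_)⟩
    set g : setSystemAut B := φ (Subgroup.inclusion M22_le ⟨m, hm⟩) with hg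
    obtain ⟨d, -, huniq⟩ := hB.2 s₂ hc₂
    refine (huniq _ ⟨(aut_mem_iff g b).mp b.2, fun p hp => ?_⟩).trans (huniq _ ⟨c.2, hs₂⟩).symm
    have hy : y (finCongr hc₂ (s₂.equivFin ⟨p, hp⟩)) = p := by simp [y]
    refine Finset.mem_map.mpr ⟨x (finCongr hc₂ (s₂.equivFin ⟨p, hp⟩)), hs₁ (by simp [x]), ?_⟩
    rw [Equiv.coe_toEmbedding]
    exact ι.injective ((hφ _ _).trans ((he _).trans (congrArg ι hy)))
  have invariant : ∀ S : Set (Option (α ⊕ B)), none ∈ S →
      (∀ m, ∀ p ∈ S, Ψ m p ∈ S) →
      S.ncard = 1 ∧ S = {none} ∨ S.ncard = 23 ∨ S.ncard = 78 ∨ S = Set.univ := by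
    intro S h0 hinv
    have hP : ∀ a a', some (Sum.inl a) ∈ S → some (Sum.inl a') ∈ S := fun a a' ha => by
      obtain ⟨e₁, he₁⟩ : ∃ x : Fin 3 ↪ α, x 0 = a := by
        obtain ⟨x⟩ : Nonempty (Fin 3 ↪ α) :=
          Function.Embedding.nonempty_of_card_le (by simp [hα])
        exact ⟨x.trans (Equiv.swap (x 0) a).toEmbedding, by simp⟩
      obtain ⟨m, hm, he⟩ := exists_M22_three h e₁ (e₁.trans (Equiv.swap a a').toEmbedding)
      have h3 := he 0
      rw [Function.Embedding.trans_apply, he₁, Equiv.coe_toEmbedding, Equiv.swap_apply_left] at h3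
      have := hinv ⟨m, hm⟩ _ ha
      rwa [hpt ⟨m, hm⟩ a a' h3] at this
    have hQ : ∀ b c, some (Sum.inr b) ∈ S → some (Sum.inr c) ∈ S := fun b c hb => by
      obtain ⟨m, hm⟩ := hblk b c
      exact hm ▸ hinv m _ hb
    have nP : (Set.range fun a : α => (some (Sum.inl a) : Option (α ⊕ B))).ncard = 22 := by
      refine (Set.ncard_range_of_injective fun a a' e => ?_).trans
        (by rw [Nat.card_eq_fintype_card, hα])
      simpa using e
    have nQ : (Set.range fun b : B => (some (Sum.inr b) : Option (α ⊕ B))).ncard = 77 := by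
      refine (Set.ncard_range_of_injective fun a a' e => ?_).trans (card_blocks' hα hB)
      simpa using e
    by_cases p : ∃ a, some (Sum.inl a) ∈ S <;> by_cases q : ∃ b, some (Sum.inr b) ∈ S
    · refine Or.inr (Or.inr (Or.inr (Set.eq_univ_of_forall fun z => ?_)))
      rcases z with _ | a | b
      exacts [h0, hP _ a p.choose_spec, hQ _ b q.choose_spec]
    · have : S = insert none (Set.range fun a : α => (some (Sum.inl a) : Option (α ⊕ B))) := by
        ext z
        rcases z with _ | a | b
        · simp [h0]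
        · simpa using hP _ a p.choose_spec
        · simpa using fun hb => q ⟨b, hb⟩
      refine Or.inr (Or.inl ?_)
      rw [this, Set.ncard_insert_of_notMem (by simp), nP]
    · have : S = insert none (Set.range fun b : B => (some (Sum.inr b) : Option (α ⊕ B))) := by
        ext z
        rcases z with _ | a | b
        · simp [h0]
        · simpa using fun ha => p ⟨a, ha⟩
        · simpa using hQ _ b q.choose_spec
      refine Or.inr (Or.inr (Or.inl ?_))
      rw [this, Set.ncard_insert_of_notMem (by simp), nQ]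
    · have : S = {none} := by
        ext z
        rcases z with _ | a | b
        · simp [h0]
        · simpa using fun ha => p ⟨a, ha⟩
        · simpa using fun hb => q ⟨b, hb⟩
      exact Or.inl ⟨by rw [this, Set.ncard_singleton], this⟩
  letI : MulAction H (Option (α ⊕ B)) := MulAction.compHom _ ((toPermHom B).comp H.subtype)
  haveI : MulAction.IsPretransitive H (Option (α ⊕ B)) := ⟨fun v w => by
    obtain ⟨a, ha⟩ := htrans v
    obtain ⟨b, hb⟩ := htrans w
    have ha' : a • (none : Option (α ⊕ B)) = v := ha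
    have hb' : b • (none : Option (α ⊕ B)) = w := hb
    exact ⟨b * a⁻¹, by rw [← ha', mul_smul, inv_smul_smul, hb']⟩⟩
  let K : Spor.M22 →* H := Ψ.codRestrict H fun m => hΨsign m
  have hK : ∀ m, K m • (none : Option (α ⊕ B)) = none := fun m => rfl
  refine IsSimpleGroup.mk fun N hN => ?_
  by_cases hbot : N = ⊥
  · exact Or.inl hbot
  refine Or.inr ?_
  set S := MulAction.orbit N (none : Option (α ⊕ B)) with hS
  have hSinv : ∀ m, ∀ p ∈ S, Ψ m p ∈ S := by
    rintro m _ ⟨n, rfl⟩
    refine ⟨⟨K m * n * (K m)⁻¹, hN.conj_mem _ n.2 _⟩, ?_⟩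
    show (K m * (n : H) * (K m)⁻¹) • none = K m • ((n : H) • (none : Option (α ⊕ B)))
    rw [mul_smul, mul_smul, inv_smul_eq_iff.mpr (hK m).symm]
  have hne : (MulAction.orbit N (none : Option (α ⊕ B))).Nonempty :=
    ⟨none, MulAction.mem_orbit_self _⟩
  have hdvd : S.ncard ∣ 100 := by
    rw [← card_vertices hα hB]
    exact (MulAction.IsBlock.orbit_of_normal none).ncard_dvd_card hne
  have hSuniv : S = Set.univ := by
    rcases invariant S (MulAction.mem_orbit_self _) hSinv with ⟨-, h1⟩ | h1 | h1 | h1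
    · exfalso
      apply hbot
      rw [Subgroup.eq_bot_iff_forall]
      intro n hn
      have hall : ∀ v : Option (α ⊕ B), n • v = v := fun v => by
        obtain ⟨a, ha⟩ := htrans v
        have ha' : a • (none : Option (α ⊕ B)) = v := ha
        have hmem : (⟨a⁻¹ * n * a, by simpa using hN.conj_mem n hn a⁻¹⟩ : N) •
            (none : Option (α ⊕ B)) ∈ S := ⟨_, rfl⟩
        rw [h1, Set.mem_singleton_iff] at hmem
        have e : (a⁻¹ * n * a) • (none : Option (α ⊕ B)) = none := hmem
        rw [mul_smul, mul_smul, ha', inv_smul_eq_iff, ha'] at e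
        exact e
      exact Subtype.ext (RelIso.ext hall)
    · rw [h1] at hdvd; norm_num at hdvd
    · rw [h1] at hdvd; norm_num at hdvd
    · exact h1
  have hNtrans : ∀ v : Option (α ⊕ B), ∃ n : N, (n : H) • (none : Option (α ⊕ B)) = v := fun v =>
    (Set.eq_univ_iff_forall.mp hSuniv v : v ∈ MulAction.orbit N none)
  have hfix : ∀ a : H, a • (none : Option (α ⊕ B)) = none → ∃ m, K m = a := fun a ha => by
    obtain ⟨m, hm⟩ := stab a.1 ha a.2
    exact ⟨m, Subtype.ext hm⟩
  rcases (hN.comap K).eq_bot_or_eq_top with hKN | hKN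
  · exfalso
    have hinj : Function.Injective fun n : N => (n : H) • (none : Option (α ⊕ B)) := by
      intro n n' e
      have h0 : ((n'⁻¹ * n : N) : H) • (none : Option (α ⊕ B)) = none := by
        rw [Subgroup.coe_mul, Subgroup.coe_inv, mul_smul, inv_smul_eq_iff]; exact e
      obtain ⟨m, hm⟩ := hfix _ h0
      have hm1 : m ∈ N.comap K := by rw [Subgroup.mem_comap, hm]; exact (n'⁻¹ * n).2
      rw [hKN, Subgroup.mem_bot] at hm1
      rw [hm1, map_one] at hm
      exact (inv_mul_eq_one.mp (Subtype.ext hm.symm : n'⁻¹ * n = 1)).symm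
    have hNc : Nat.card N = 100 := by
      rw [Nat.card_eq_of_bijective _ ⟨hinj, hNtrans⟩, card_vertices hα hB]
    have h25 := no_orbit_of_size_five_squared N hNc _ hinj
    rcases invariant {x | ∃ n : N, n ^ 25 = 1 ∧ (n : H) • (none : Option (α ⊕ B)) = x}
        ⟨1, one_pow _, one_smul _ _⟩ (by
      rintro m _ ⟨n, hn, rfl⟩
      refine ⟨⟨K m * n * (K m)⁻¹, hN.conj_mem _ n.2 _⟩, Subtype.ext ?_, ?_⟩
      · show (K m * (n : H) * (K m)⁻¹) ^ 25 = 1
        rw [conj_pow, show (n : H) ^ 25 = 1 from congrArg Subtype.val hn, mul_one,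
          mul_inv_cancel]
      · show (K m * (n : H) * (K m)⁻¹) • none = K m • ((n : H) • (none : Option (α ⊕ B)))
        rw [mul_smul, mul_smul, inv_smul_eq_iff.mpr (hK m).symm]) with ⟨h1, -⟩ | h1 | h1 | h1
    · rw [h25] at h1; norm_num at h1
    · rw [h25] at h1; norm_num at h1
    · rw [h25] at h1; norm_num at h1
    · rw [h1, Set.ncard_univ, card_vertices hα hB] at h25; norm_num at h25
  · rw [Subgroup.eq_top_iff']
    intro a
    obtain ⟨n, hn⟩ := hNtrans (a • none)
    obtain ⟨m, hm⟩ := hfix ((n : H)⁻¹ * a) (by rw [mul_smul, inv_smul_eq_iff, hn])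
    have hmN : K m ∈ N := Subgroup.mem_comap.mp (hKN ▸ Subgroup.mem_top m)
    rw [hm] at hmN
    simpa using N.mul_mem n.2 hmN

end Cfsg.Agent.Lib.Steiner22
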