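import Cfsg.Agent.Lib.Steiner22.Basic

/-!
Adjacency in the block graph and the point-block graph of an S(3,6,22).
-/

set_option autoImplicit false

namespace Cfsg.Agent.Lib.Steiner22

set_option linter.unusedSectionVars false

variable {α : Type*} [Fintype α] [DecidableEq α]

theorem block_ne_of_disjoint {B : Set (Finset α)} (hB : IsSteinerSystem 3 6 B) {b c : B}
    (h : Disjoint (b : Finset α) c) : b ≠ c := by
  rintro rfl
  have h6 := hB.1 _ b.2
  rw [disjoint_self, Finset.bot_eq_empty] at h
  rw [h] at h6
  simp at h6

theorem blockGraph_adj {B : Set (Finset α)} (hB : IsSteinerSystem 3 6 B) (b c : B) :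
    (blockGraph B).Adj b c ↔ Disjoint (b : Finset α) c := by
  unfold blockGraph
  rw [SimpleGraph.fromRel_adj]
  exact ⟨fun h => h.2.elim id fun h => h.symm, fun h => ⟨block_ne_of_disjoint hB h, Or.inl h⟩⟩

theorem adj_none_point (B : Set (Finset α)) (a : α) :
    (pointBlockGraph B).Adj none (some (Sum.inl a)) := by
  simp [pointBlockGraph, pointBlockRel]

theorem adj_none_block (B : Set (Finset α)) (b : B) :
    ¬ (pointBlockGraph B).Adj none (some (Sum.inr b)) := by
  simp [pointBlockGraph, pointBlockRel]

theorem adj_point_point (B : Set (Finset α)) (a a' : α) :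
    ¬ (pointBlockGraph B).Adj (some (Sum.inl a)) (some (Sum.inl a')) := by
  simp [pointBlockGraph, pointBlockRel]

theorem adj_point_block (B : Set (Finset α)) (a : α) (b : B) :
    (pointBlockGraph B).Adj (some (Sum.inl a)) (some (Sum.inr b)) ↔ a ∈ (b : Finset α) := by
  simp [pointBlockGraph, pointBlockRel]

theorem adj_block_block {B : Set (Finset α)} (hB : IsSteinerSystem 3 6 B) (b c : B) :
    (pointBlockGraph B).Adj (some (Sum.inr b)) (some (Sum.inr c)) ↔
      Disjoint (b : Finset α) c := by
  unfold pointBlockGraph
  rw [SimpleGraph.fromRel_adj]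
  constructor
  · exact fun h => h.2.elim id fun h => Disjoint.symm h
  · intro h
    refine ⟨?_, Or.inl h⟩
    simpa using block_ne_of_disjoint hB h

/-- Counting in a subtype of a set of blocks. -/
theorem card_filter_subtype {B : Set (Finset α)} [Fintype B] (p : Finset α → Prop)
    [DecidablePred p] :
    (Finset.univ.filter fun b : B => p b).card = (B.toFinset.filter p).card := by
  rw [← Finset.card_map (Function.Embedding.subtype (· ∈ B))]
  congr 1
  ext b
  simp [and_comm]

theorem card_filter_option_sum {A B : Type*} [Fintype A] [Fintype B]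
    (p : Option (A ⊕ B) → Prop) [DecidablePred p] :
    (Finset.univ.filter p).card = (if p none then 1 else 0) +
      ((Finset.univ.filter fun a : A => p (some (Sum.inl a))).card +
        (Finset.univ.filter fun b : B => p (some (Sum.inr b))).card) := by
  simp only [Finset.card_filter]
  rw [Fintype.sum_option, Fintype.sum_sum_type]

theorem data_of {B : Set (Finset α)} [Fintype B] (hα : Fintype.card α = 22)
    (hB : IsSteinerSystem 3 6 B) : Data B.toFinset :=
  of_isSteinerSystem hα hB fun _ => Set.mem_toFinset

theorem card_commonNeighbors {V : Type*} [Fintype V] (G : SimpleGraph V) [DecidableRel G.Adj]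
    (u v : V) [Fintype (G.commonNeighbors u v)] :
    Fintype.card (G.commonNeighbors u v) =
      (Finset.univ.filter fun w => G.Adj u w ∧ G.Adj v w).card := by
  rw [← Set.toFinset_card]
  congr 1
  ext w
  simp [SimpleGraph.mem_commonNeighbors]

end Cfsg.Agent.Lib.Steiner22
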