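import Cfsg.Agent.Lib.Steiner22.GraphIso
import Cfsg.Agent.S0428

/-!
The automorphism group of the point-block graph of an S(3,6,22): a simple group of order 44352000
sits in it with index two.
-/

set_option autoImplicit false
set_option linter.unusedSectionVars false

namespace Cfsg.Agent.Lib.Steiner22

open Finset GolayUnique GolayUnique.Derived Leech

variable {α : Type*} [DecidableEq α] [Fintype α] {B : Set (Finset α)}

/-- The automorphisms of the graph. -/
abbrev GraphAut (B : Set (Finset α)) : Type _ := pointBlockGraph B ≃g pointBlockGraph B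

/-- An automorphism as a permutation of the vertices. -/
def toPermHom (B : Set (Finset α)) : GraphAut B →* Equiv.Perm (Option (α ⊕ B)) where
  toFun a := a.toEquiv
  map_one' := rfl
  map_mul' _ _ := rfl

theorem toPermHom_injective : Function.Injective (toPermHom B) := fun _ _ e =>
  RelIso.toEquiv_injective e

instance : Finite (GraphAut B) := Finite.of_injective _ (toPermHom_injective (B := B))

theorem aut_mem_iff (g : setSystemAut B) :
    ∀ b, b ∈ B ↔ b.map (g : Equiv.Perm α).toEmbedding ∈ B :=
  mem_setSystemAut_iff.mp g.2

/-- Automorphisms of the system act on the graph. -/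
def extendHom (hB : IsSteinerSystem 3 6 B) : setSystemAut B →* GraphAut B where
  toFun g := graphIso hB hB (g : Equiv.Perm α) (aut_mem_iff g)
  map_one' := RelIso.ext fun p => by
    rcases p with _ | x | b <;> simp [graphIso, vertexEquiv, blockEquiv, Equiv.Perm.one_def]
  map_mul' g g' := RelIso.ext fun p => by
    rcases p with _ | x | b
    · rfl
    · rfl
    · simp [graphIso, vertexEquiv, blockEquiv, Finset.map_map, Equiv.Perm.mul_def,
        Function.Embedding.trans]

variable (hα : Fintype.card α = 22) (hB : IsSteinerSystem 3 6 B)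

theorem extendHom_none (g : setSystemAut B) : extendHom hB g none = none := rfl

theorem extendHom_injective : Function.Injective (extendHom hB) := fun g g' e =>
  Subtype.ext (Equiv.ext fun x => by
    have := DFunLike.congr_fun e (some (Sum.inl x))
    exact Sum.inl_injective (Option.some_injective _ this))

theorem exists_extend {a : GraphAut B} (ha : a none = none) : ∃ g, extendHom hB g = a := by
  have hpt : ∀ x, ∃ y, a (some (Sum.inl x)) = some (Sum.inl y) := fun x => by
    have h1 : (pointBlockGraph B).Adj (a none) (a (some (Sum.inl x))) :=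
      a.map_rel_iff.mpr (adj_none_point B x)
    rw [ha] at h1
    rcases hz : a (some (Sum.inl x)) with _ | y | c
    · rw [hz] at h1; exact absurd h1 ((pointBlockGraph B).loopless.irrefl none)
    · exact ⟨y, rfl⟩
    · rw [hz] at h1; exact absurd h1 (adj_none_block B c)
  choose f hf using hpt
  have hfi : Function.Injective f := fun x y e =>
    Sum.inl_injective (Option.some_injective _ (a.injective (by rw [hf, hf, e])))
  let g : Equiv.Perm α := Equiv.ofBijective f (Finite.injective_iff_bijective.mp hfi)
  have hblk : ∀ b : B, ∃ c : B, a (some (Sum.inr b)) = some (Sum.inr c) ∧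
      c.1 = b.1.map g.toEmbedding := fun b => by
    rcases hz : a (some (Sum.inr b)) with _ | y | c
    · exact absurd (a.injective (hz.trans ha.symm)) (by simp)
    · obtain ⟨x, hx⟩ := g.surjective y
      have := a.injective (hz.trans (by rw [← hx]; exact (hf x).symm))
      simp at this
    · refine ⟨c, rfl, ?_⟩
      ext y
      obtain ⟨x, rfl⟩ := g.surjective y
      rw [← adj_point_block B (g x) c, show some (Sum.inl (g x)) = a (some (Sum.inl x)) from
        (hf x).symm, ← hz, a.map_rel_iff, adj_point_block]
      exact (Finset.mem_map' g.toEmbedding).symm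
  have hg : g ∈ setSystemAut B := mem_setSystemAut_iff.mpr fun b => by
    constructor
    · intro hb
      obtain ⟨c, -, hc⟩ := hblk ⟨b, hb⟩
      exact hc ▸ c.2
    · intro hb
      obtain ⟨z, hz⟩ := a.surjective (some (Sum.inr ⟨_, hb⟩))
      rcases z with _ | x | b'
      · rw [ha] at hz; simp at hz
      · rw [hf] at hz; simp at hz
      · obtain ⟨c, hc, hc'⟩ := hblk b'
        rw [hc] at hz
        have e : c.1 = b.map g.toEmbedding :=
          congrArg Subtype.val (Sum.inr_injective (Option.some_injective _ hz))
        rw [← Finset.map_inj.mp (hc'.symm.trans e)]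
        exact b'.2
  refine ⟨⟨g, hg⟩, RelIso.ext fun p => ?_⟩
  rcases p with _ | x | b
  · rw [ha]; rfl
  · exact (hf x).symm
  · obtain ⟨c, hc, hc'⟩ := hblk b
    rw [hc]
    simp only [extendHom, graphIso, MonoidHom.coe_mk, OneHom.coe_mk]
    exact congrArg (fun z => some (Sum.inr z)) (Subtype.ext hc'.symm)

section Counting

include hα hB

theorem exists_aut_to (v : Option (α ⊕ B)) : ∃ a : GraphAut B, a none = v := by
  classical
  haveI : Fintype B := Fintype.ofFinite B
  exact exists_iso_srg (Cfsg.Agent.S0428.result hα hB) (Cfsg.Agent.S0428.result hα hB) none v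

theorem card_blocks' : Nat.card B = 77 := by
  have h := Golay.Steiner.ncard_mul_choose hB
  rw [hα] at h
  norm_num [Nat.choose] at h
  rw [Nat.card_coe_set_eq]
  omega

theorem card_vertices : Nat.card (Option (α ⊕ B)) = 100 := by
  rw [Finite.card_option, Nat.card_sum, Nat.card_eq_fintype_card, hα, card_blocks' hα hB]

theorem card_graphAut : Nat.card (GraphAut B) = 100 * Nat.card (setSystemAut B) := by
  choose t ht using exists_aut_to hα hB
  rw [← card_vertices hα hB, ← Nat.card_prod]
  refine (Nat.card_eq_of_bijective (fun p => t p.1 * extendHom hB p.2) ⟨?_, ?_⟩).symm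
  · rintro ⟨v, g⟩ ⟨v', g'⟩ e
    have h1 : v = v' := by
      have := DFunLike.congr_fun e none
      rwa [RelIso.mul_apply, RelIso.mul_apply, extendHom_none, extendHom_none, ht, ht] at this
    subst h1
    have h2 : g = g' := extendHom_injective hB (mul_left_cancel (show t v * _ = t v * _ from e))
    subst h2; rfl
  · intro a
    obtain ⟨g, hg⟩ := exists_extend hB (a := (t (a none))⁻¹ * a) (by
      rw [RelIso.mul_apply]
      conv_lhs => arg 2; rw [← ht (a none)]
      exact RelIso.inv_apply_self _ _)
    exact ⟨(a none, g), by simp only [hg]; group⟩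

end Counting

/-- The sign of the permutation of the vertices. -/
noncomputable def signHom (B : Set (Finset α)) [Fintype B] : GraphAut B →* ℤˣ :=
  Equiv.Perm.sign.comp (toPermHom B)

theorem sign_extend [Fintype B] (g : setSystemAut B) :
    signHom B (extendHom hB g) = Equiv.Perm.sign (g : Equiv.Perm α) *
      Equiv.Perm.sign (blockEquiv (g : Equiv.Perm α) (aut_mem_iff g)) := by
  show Equiv.Perm.sign _ = _
  rw [show toPermHom B (extendHom hB g) =
      Equiv.optionCongr (Equiv.sumCongr (g : Equiv.Perm α)
        (blockEquiv (g : Equiv.Perm α) (aut_mem_iff g))) from rfl]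
  rw [Equiv.optionCongr_sign, ← Equiv.Perm.sign_sumCongr]

/-- The masks of the moved blocks of the standard system under `x ↦ -1/x`. -/
def movedMasks : List ℕ :=
  ((List.range 4096).map Golay.enc).filter fun m => Nat.beq (Golay.pc24 m) 8 &&
    m.testBit (Golay.idx none) && m.testBit (Golay.idx (some 0)) &&
      !(Nat.beq (Golay.permMask Golay.invCode m) m)

theorem movedMasks_card : movedMasks.toFinset.card = 72 ∧
    (movedMasks.all fun m => decide (m < 2 ^ 24)) = true := by decide +kernel

attribute [irreducible] movedMasks

theorem movedMasks_injOn : Set.InjOn Golay.setOfMask (movedMasks.toFinset : Set ℕ) := by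
  have h := List.all_eq_true.mp movedMasks_card.2
  intro a ha b hb e
  rw [Finset.mem_coe, List.mem_toFinset] at ha hb
  exact Golay.setOfMask_injOn (of_decide_eq_true (h a ha)) (of_decide_eq_true (h b hb)) e

theorem projInv_pair : projInv none = some 0 ∧ projInv (some 0) = none ∧
    (∀ p, projInv p ≠ p) ∧ ∀ p, projInv (projInv p) = p := by decide +kernel

theorem projInv_stab : projInv ∈ pointSetStab {none, some 0} := by
  refine mem_pointSetStab.mpr ⟨Golay.projInv_mem, ?_⟩
  rw [Finset.map_insert, Finset.map_singleton, Equiv.coe_toEmbedding, projInv_pair.1,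
    projInv_pair.2.1, Finset.pair_comm]

include hα

theorem sign_twist [Fintype B] {ι : α ↪ GolayPt} (h : IsModel {none, some 0} 6 B ι)
    (φ : pointSetStab {none, some 0} ≃* setSystemAut B)
    (hφ : ∀ g a, ι ((φ g : Equiv.Perm α) a) = (g : Equiv.Perm GolayPt) (ι a)) :
    signHom B (extendHom hB (φ ⟨projInv, projInv_stab⟩)) = -1 := by
  classical
  set g := φ ⟨projInv, projInv_stab⟩ with hg
  have hga : ∀ a, ι ((g : Equiv.Perm α) a) = projInv (ι a) := fun a => hφ _ a
  have hsq : (g : Equiv.Perm α) ^ 2 = 1 := Equiv.ext fun a => ι.injective (by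
    rw [sq, Equiv.Perm.mul_apply, hga, hga, projInv_pair.2.2.2]; rfl)
  set σ := blockEquiv (g : Equiv.Perm α) (aut_mem_iff g) with hσ
  have hσsq : (σ : Equiv.Perm B) ^ 2 = 1 := Equiv.ext fun b => Subtype.ext (by
    show (b.1.map (g : Equiv.Perm α).toEmbedding).map (g : Equiv.Perm α).toEmbedding = b.1
    rw [Finset.map_map]
    conv_rhs => rw [← Finset.map_refl (s := b.1)]
    congr 1
    exact Function.Embedding.ext fun a => DFunLike.congr_fun hsq a)
  have hlift : ∀ b : Finset α, (lift {none, some 0} ι b).map projInv.toEmbedding =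
      lift {none, some 0} ι (b.map (g : Equiv.Perm α).toEmbedding) := fun b => by
    rw [lift, lift, Finset.map_union, (mem_pointSetStab.mp projInv_stab).2, Finset.map_map,
      Finset.map_map]
    congr 2
    exact Function.Embedding.ext fun a => (hga a).symm
  have hok := Golay.okCode_of_inM24 Golay.inM24_gens.2.1
  have hmask : ∀ m, (Golay.setOfMask m).map projInv.toEmbedding =
      Golay.setOfMask (Golay.permMask Golay.invCode m) := fun m => by
    rw [← smul_eq_map, Golay.projInv_eq, Golay.smul_setOfMask hok]
  have hmovedcard : (univ.filter fun b : B => σ b ≠ b).card = 72 := by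
    refine ((Finset.card_image_of_injective _
      (show Function.Injective (fun b : B => lift {none, some 0} ι b.1) from fun b c e =>
        Subtype.ext (by rw [← part_lift h.compl b.1, ← part_lift h.compl c.1]; exact congrArg _ e))
      ).symm.trans (Eq.trans ?_ (Finset.card_image_of_injOn movedMasks_injOn))).trans
        movedMasks_card.1
    refine congrArg Finset.card ?_
    ext S
    simp only [Finset.mem_image, Finset.mem_filter, Finset.mem_univ, true_and, List.mem_toFinset,
      movedMasks, List.mem_filter, List.mem_map, List.mem_range, Bool.and_eq_true,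
      Bool.not_eq_true', Nat.beq_eq]
    constructor
    · rintro ⟨b, hb, rfl⟩
      obtain ⟨hb6, hbc⟩ := (h.mem b.1).mp b.2
      obtain ⟨k, hk, hkS⟩ := Golay.mem_supports_iff.mp hbc
      refine ⟨Golay.enc k, ⟨⟨k, hk, rfl⟩, ⟨⟨?_, ?_⟩, ?_⟩, ?_⟩, hkS.symm⟩
      · rw [← Golay.card_setOfMask, ← hkS, card_lift h.compl, hb6, Finset.card_pair (by simp)]
      · rw [← Golay.mem_setOfMask, ← hkS]; exact mem_lift_of_mem (by simp)
      · rw [← Golay.mem_setOfMask, ← hkS]; exact mem_lift_of_mem (by simp)
      · rw [Bool.eq_false_iff, ne_eq, Nat.beq_eq]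
        intro e
        have h1 := hmask (Golay.enc k)
        rw [e, ← hkS, hlift] at h1
        apply hb
        apply Subtype.ext
        have := congrArg (part ι) h1
        rwa [part_lift h.compl, part_lift h.compl] at this
    · rintro ⟨m, ⟨⟨k, hk, rfl⟩, ⟨⟨h8, hn⟩, h0⟩, hne⟩, rfl⟩
      set S := Golay.setOfMask (Golay.enc k) with hS
      have hOS : ({none, some 0} : Finset GolayPt) ⊆ S := by
        simp [Finset.insert_subset_iff, hS, Golay.mem_setOfMask, hn, h0]
      have hlS : lift {none, some 0} ι (part ι S) = S := by
        ext p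
        rcases h.compl.cases p with hp | ⟨a, rfl⟩
        · exact iff_of_true (mem_lift_of_mem hp) (hOS hp)
        · rw [mem_lift_apply h.compl]; simp [part]
      have hmem : part ι S ∈ B := (h.mem _).mpr ⟨by
        have h1 := card_lift h.compl (part ι S)
        rw [hlS, Golay.card_setOfMask, h8, Finset.card_pair (by simp)] at h1
        omega, by rw [hlS]; exact Golay.mem_supports_iff.mpr ⟨k, hk, rfl⟩⟩
      refine ⟨⟨_, hmem⟩, fun e => ?_, hlS⟩
      have h1 := hlift (part ι S)
      have e' : (part ι S).map (g : Equiv.Perm α).toEmbedding = part ι S := congrArg Subtype.val e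
      rw [e', hlS, hS, hmask] at h1
      rw [Bool.eq_false_iff, ne_eq, Nat.beq_eq] at hne
      exact hne (Golay.setOfMask_injOn (Golay.permMask_lt hok _) (Golay.enc_lt hk) h1)
  rw [sign_extend hB, Equiv.Perm.sign_of_pow_two_eq_one hsq, Equiv.Perm.sign_of_pow_two_eq_one hσsq]
  have h1 : Fintype.card (Function.fixedPoints (g : Equiv.Perm α)) = 0 := by
    rw [Fintype.card_eq_zero_iff]
    exact ⟨fun a => projInv_pair.2.2.1 (ι a.1) (by rw [← hga, a.2.eq])⟩
  have h2 : Fintype.card (Function.fixedPoints (σ : Equiv.Perm B)) = 5 := by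
    have := Finset.card_filter_add_card_filter_not (s := (univ : Finset B)) (fun b => σ b ≠ b)
    rw [hmovedcard, Finset.card_univ, ← Nat.card_eq_fintype_card, card_blocks' hα hB] at this
    rw [Fintype.card_of_subtype ((univ : Finset B).filter fun b => ¬ σ b ≠ b)
      (fun b => by simp [Function.IsFixedPt])]
    omega
  rw [h1, h2, hα, ← Nat.card_eq_fintype_card (α := B), card_blocks' hα hB]
  decide

end Cfsg.Agent.Lib.Steiner22
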