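import Mathlib
import Cfsg.Prelude.Def_Sporadic_a

/-!
Counting in a Steiner system S(3,6,22): replication numbers, intersections, the blocks disjoint
from a block.
-/

set_option autoImplicit false

namespace Cfsg.Agent.Lib.Steiner22

open Finset

variable {α : Type*} [DecidableEq α]

theorem sum_card_inter_eq (F : Finset (Finset α)) (S : Finset α) :
    ∑ b ∈ F, (b ∩ S).card = ∑ z ∈ S, (F.filter (z ∈ ·)).card := by
  have e : ∀ b : Finset α, (b ∩ S).card = ∑ z ∈ S, if z ∈ b then 1 else 0 := fun b => by
    rw [← Finset.card_filter, Finset.filter_mem_eq_inter, Finset.inter_comm]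
  rw [Finset.sum_congr rfl fun b _ => e b, Finset.sum_comm]
  exact Finset.sum_congr rfl fun z _ => (Finset.card_filter _ _).symm

variable [Fintype α]

/-- The data of an S(3,6,22) with the block family as a finset. -/
structure Data (F : Finset (Finset α)) : Prop where
  card_pts : Fintype.card α = 22
  size : ∀ b ∈ F, b.card = 6
  triple : ∀ s : Finset α, s.card = 3 → (F.filter (s ⊆ ·)).card = 1

variable {F : Finset (Finset α)}

theorem of_isSteinerSystem {B : Set (Finset α)} (hα : Fintype.card α = 22)
    (hB : IsSteinerSystem 3 6 B) (hF : ∀ b, b ∈ F ↔ b ∈ B) : Data F := by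
  refine ⟨hα, fun b hb => hB.1 b ((hF b).mp hb), fun s hs => ?_⟩
  obtain ⟨b, ⟨hb, hsb⟩, huniq⟩ := hB.2 s hs
  rw [Finset.card_eq_one]
  refine ⟨b, ?_⟩
  ext c
  simp only [Finset.mem_filter, Finset.mem_singleton]
  exact ⟨fun h => huniq c ⟨(hF c).mp h.1, h.2⟩, fun h => h ▸ ⟨(hF b).mpr hb, hsb⟩⟩

namespace Data

variable (h : Data F)
include h

theorem pair_count {x y : α} (hxy : x ≠ y) :
    (F.filter fun b => x ∈ b ∧ y ∈ b).card = 5 := by
  set S : Finset α := univ \ {x, y} with hS
  have hScard : S.card = 20 := by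
    rw [hS, Finset.card_sdiff_of_subset (Finset.subset_univ _), Finset.card_univ, h.card_pts,
      Finset.card_pair hxy]
  have e := sum_card_inter_eq (F.filter fun b => x ∈ b ∧ y ∈ b) S
  have lhs : ∀ b ∈ F.filter (fun b => x ∈ b ∧ y ∈ b), (b ∩ S).card = 4 := by
    intro b hb
    rw [Finset.mem_filter] at hb
    have : b ∩ S = b \ {x, y} := by ext z; simp [hS]
    rw [this, Finset.card_sdiff_of_subset (by simp [Finset.insert_subset_iff, hb.2.1, hb.2.2]),
      h.size b hb.1, Finset.card_pair hxy]
  have rhs : ∀ z ∈ S, ((F.filter fun b => x ∈ b ∧ y ∈ b).filter (z ∈ ·)).card = 1 := by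
    intro z hz
    simp [hS] at hz
    rw [Finset.filter_filter]
    refine Eq.trans ?_ (h.triple {x, y, z} (by
      rw [Finset.card_insert_of_notMem (by simp [hxy, Ne.symm hz.1]),
        Finset.card_pair (Ne.symm hz.2)]))
    congr 1
    ext b
    simp [Finset.insert_subset_iff, and_assoc]
  rw [Finset.sum_congr rfl lhs, Finset.sum_congr rfl rhs, Finset.sum_const, Finset.sum_const,
    hScard] at e
  simp only [smul_eq_mul] at e
  omega

theorem point_count (x : α) : (F.filter (x ∈ ·)).card = 21 := by
  set S : Finset α := univ.erase x with hS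
  have hScard : S.card = 21 := by
    rw [hS, Finset.card_erase_of_mem (Finset.mem_univ _), Finset.card_univ, h.card_pts]
  have e := sum_card_inter_eq (F.filter (x ∈ ·)) S
  have lhs : ∀ b ∈ F.filter (x ∈ ·), (b ∩ S).card = 5 := by
    intro b hb
    rw [Finset.mem_filter] at hb
    have : b ∩ S = b.erase x := by ext z; simp [hS]; tauto
    rw [this, Finset.card_erase_of_mem hb.2, h.size b hb.1]
  have rhs : ∀ z ∈ S, ((F.filter (x ∈ ·)).filter (z ∈ ·)).card = 5 := by
    intro z hz
    rw [Finset.filter_filter]
    exact h.pair_count (by simpa [hS] using (Ne.symm (Finset.ne_of_mem_erase hz)))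
  rw [Finset.sum_congr rfl lhs, Finset.sum_congr rfl rhs, Finset.sum_const, Finset.sum_const,
    hScard] at e
  simp only [smul_eq_mul] at e
  omega

theorem card_blocks : F.card = 77 := by
  have e := sum_card_inter_eq F (univ : Finset α)
  rw [Finset.sum_congr rfl (fun b hb => show (b ∩ univ).card = 6 by
      rw [Finset.inter_univ, h.size b hb]),
    Finset.sum_congr rfl (fun z _ => h.point_count z), Finset.sum_const, Finset.sum_const,
    Finset.card_univ, h.card_pts] at e
  simp only [smul_eq_mul] at e
  omega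

theorem inter_le_two {b c : Finset α} (hb : b ∈ F) (hc : c ∈ F) (hbc : b ≠ c) :
    (b ∩ c).card ≤ 2 := by
  by_contra hlt
  obtain ⟨s, hs, hs3⟩ := Finset.exists_subset_card_eq (n := 3) (s := b ∩ c) (by omega)
  obtain ⟨d, hd⟩ := Finset.card_eq_one.mp (h.triple s hs3)
  have h1 : b ∈ F.filter (s ⊆ ·) :=
    Finset.mem_filter.mpr ⟨hb, hs.trans Finset.inter_subset_left⟩
  have h2 : c ∈ F.filter (s ⊆ ·) :=
    Finset.mem_filter.mpr ⟨hc, hs.trans Finset.inter_subset_right⟩
  rw [hd, Finset.mem_singleton] at h1 h2
  exact hbc (h1.trans h2.symm)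

theorem inter_ne_one {b c : Finset α} (hb : b ∈ F) (hc : c ∈ F) (hbc : b ≠ c) :
    (b ∩ c).card ≠ 1 := by
  intro h1
  obtain ⟨x, hx⟩ := Finset.card_eq_one.mp h1
  have hxb : x ∈ b ∧ x ∈ c := Finset.mem_inter.mp (hx ▸ Finset.mem_singleton_self x)
  -- the other 20 blocks through x: the intersections with b minus x sum to 20
  set T := (F.filter (x ∈ ·)).erase b with hT
  have hTcard : T.card = 20 := by
    rw [hT, Finset.card_erase_of_mem (Finset.mem_filter.mpr ⟨hb, hxb.1⟩), h.point_count x]
  have e := sum_card_inter_eq T (b.erase x)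
  have rhs : ∀ z ∈ b.erase x, (T.filter (z ∈ ·)).card = 4 := by
    intro z hz
    have hz' := Finset.mem_erase.mp hz
    rw [hT, Finset.filter_erase, Finset.filter_filter,
      Finset.card_erase_of_mem (Finset.mem_filter.mpr ⟨hb, hxb.1, hz'.2⟩),
      h.pair_count (Ne.symm hz'.1)]
  rw [Finset.sum_congr rfl rhs, Finset.sum_const, Finset.card_erase_of_mem hxb.1, h.size b hb] at e
  have hlt : ∑ d ∈ T, (d ∩ b.erase x).card < ∑ _d ∈ T, 1 := by
    refine Finset.sum_lt_sum (fun d hd => ?_) ⟨c, ?_, ?_⟩
    · simp only [hT, Finset.mem_erase, Finset.mem_filter] at hd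
      have hle := h.inter_le_two hd.2.1 hb hd.1
      have : d ∩ b.erase x = (d ∩ b).erase x := by rw [Finset.inter_erase]
      rw [this, Finset.card_erase_of_mem (Finset.mem_inter.mpr ⟨hd.2.2, hxb.1⟩)]
      omega
    · exact Finset.mem_erase.mpr ⟨Ne.symm hbc, Finset.mem_filter.mpr ⟨hc, hxb.2⟩⟩
    · rw [Finset.inter_erase, Finset.inter_comm, hx]
      simp
  rw [Finset.sum_const, hTcard] at hlt
  simp only [smul_eq_mul] at e hlt
  omega

theorem inter_card {b c : Finset α} (hb : b ∈ F) (hc : c ∈ F) (hbc : b ≠ c) :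
    (b ∩ c).card = 0 ∨ (b ∩ c).card = 2 := by
  have := h.inter_le_two hb hc hbc
  have := h.inter_ne_one hb hc hbc
  omega

/-- A point outside `b` lies in six blocks disjoint from `b`. -/
theorem outside_count {b : Finset α} (hb : b ∈ F) {q : α} (hq : q ∉ b) :
    (F.filter fun c => q ∈ c ∧ Disjoint b c).card = 6 := by
  have e := sum_card_inter_eq (F.filter (q ∈ ·)) b
  rw [Finset.sum_congr rfl (fun z hz => show ((F.filter (q ∈ ·)).filter (z ∈ ·)).card = 5 by
      rw [Finset.filter_filter]; exact h.pair_count (fun e => hq (e ▸ hz))),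
    Finset.sum_const, h.size b hb] at e
  have key : ∀ c ∈ F.filter (q ∈ ·), (c ∩ b).card = if Disjoint b c then 0 else 2 := by
    intro c hc
    rw [Finset.mem_filter] at hc
    split_ifs with hd
    · rw [Finset.inter_comm, Finset.disjoint_iff_inter_eq_empty.mp hd, Finset.card_empty]
    · rcases h.inter_card hb hc.1 (fun e => hq (e ▸ hc.2)) with h0 | h2
      · exact absurd (Finset.disjoint_iff_inter_eq_empty.mpr (Finset.card_eq_zero.mp h0)) hd
      · rwa [Finset.inter_comm]
  rw [Finset.sum_congr rfl key, Finset.sum_ite, Finset.sum_const, Finset.sum_const,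
    Finset.filter_filter, Finset.filter_filter] at e
  have split := Finset.card_filter_add_card_filter_not
    (s := F.filter (q ∈ ·)) (Disjoint b)
  rw [h.point_count q, Finset.filter_filter, Finset.filter_filter] at split
  simp only [smul_eq_mul] at e
  omega

/-- The blocks disjoint from a block. -/
theorem disjoint_count {b : Finset α} (hb : b ∈ F) : (F.filter (Disjoint b)).card = 16 := by
  have e := sum_card_inter_eq (F.filter (Disjoint b)) bᶜ
  rw [Finset.sum_congr rfl (fun c hc => show (c ∩ bᶜ).card = 6 by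
      rw [Finset.mem_filter] at hc
      rw [Finset.inter_eq_left.mpr, h.size c hc.1]
      intro z hz
      exact Finset.mem_compl.mpr fun hzb => Finset.disjoint_left.mp hc.2 hzb hz),
    Finset.sum_congr rfl (fun z hz => show ((F.filter (Disjoint b)).filter (z ∈ ·)).card = 6 by
      rw [Finset.filter_filter, Finset.filter_congr (fun c _ => and_comm)]
      exact h.outside_count hb (Finset.mem_compl.mp hz)),
    Finset.sum_const, Finset.sum_const, Finset.card_compl, h.card_pts, h.size b hb] at e
  simp only [smul_eq_mul] at e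
  omega

/-- No three pairwise disjoint blocks. -/
theorem no_triangle {b c d : Finset α} (hb : b ∈ F) (hc : c ∈ F) (hd : d ∈ F)
    (hbc : Disjoint b c) (hbd : Disjoint b d) (hcd : Disjoint c d) : False := by
  have hne : ∀ {u v : Finset α}, u ∈ F → Disjoint u v → u ≠ v := by
    intro u v hu hd e
    subst e
    have := h.size u hu
    rw [disjoint_self, Finset.bot_eq_empty] at hd
    simp [hd] at this
  set D := (F.filter (Disjoint b)).erase c with hD
  have hDcard : D.card = 15 := by
    rw [hD, Finset.card_erase_of_mem (Finset.mem_filter.mpr ⟨hc, hbc⟩), h.disjoint_count hb]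
  have e := sum_card_inter_eq D c
  rw [Finset.sum_congr rfl (fun z hz => show (D.filter (z ∈ ·)).card = 5 by
      rw [hD, Finset.filter_erase, Finset.filter_filter,
        Finset.filter_congr (fun c _ => and_comm),
        Finset.card_erase_of_mem (Finset.mem_filter.mpr ⟨hc, hz, hbc⟩),
        h.outside_count hb (fun hzb => Finset.disjoint_left.mp hbc hzb hz)]),
    Finset.sum_const, h.size c hc] at e
  have hlt : ∑ u ∈ D, (u ∩ c).card < ∑ _u ∈ D, 2 := by
    refine Finset.sum_lt_sum (fun u hu => ?_) ⟨d, ?_, ?_⟩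
    · simp only [hD, Finset.mem_erase, Finset.mem_filter] at hu
      exact h.inter_le_two hu.2.1 hc hu.1
    · exact Finset.mem_erase.mpr ⟨(hne hc hcd).symm, Finset.mem_filter.mpr ⟨hd, hbd⟩⟩
    · rw [Finset.inter_comm, Finset.disjoint_iff_inter_eq_empty.mp hcd]; simp
  rw [Finset.sum_const, hDcard] at hlt
  simp only [smul_eq_mul] at e hlt
  omega

/-- Two blocks meeting in two points have four common disjoint blocks. -/
theorem mu_count {b c : Finset α} (hb : b ∈ F) (hc : c ∈ F) (hbc : b ≠ c)
    (hm : ¬ Disjoint b c) : (F.filter fun d => Disjoint b d ∧ Disjoint c d).card = 4 := by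
  have h2 : (c ∩ b).card = 2 := by
    rcases h.inter_card hc hb (Ne.symm hbc) with h0 | h2
    · exact absurd (Finset.disjoint_iff_inter_eq_empty.mpr
        (by rw [Finset.inter_comm]; exact Finset.card_eq_zero.mp h0)) hm
    · exact h2
  set D := F.filter (Disjoint b) with hD
  have e := sum_card_inter_eq D (c \ b)
  have hcb : (c \ b).card = 4 := by
    have := Finset.card_sdiff_add_card_inter c b
    rw [h.size c hc] at this
    omega
  rw [Finset.sum_congr rfl (fun z hz => show (D.filter (z ∈ ·)).card = 6 by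
      rw [hD, Finset.filter_filter, Finset.filter_congr (fun c _ => and_comm)]
      exact h.outside_count hb (Finset.mem_sdiff.mp hz).2),
    Finset.sum_const, hcb] at e
  have key : ∀ d ∈ D, (d ∩ (c \ b)).card = if Disjoint c d then 0 else 2 := by
    intro d hd
    rw [hD, Finset.mem_filter] at hd
    have : d ∩ (c \ b) = d ∩ c := by
      ext z
      simp only [Finset.mem_inter, Finset.mem_sdiff]
      exact ⟨fun ⟨a, b, _⟩ => ⟨a, b⟩,
        fun ⟨a, b'⟩ => ⟨a, b', fun zb => Finset.disjoint_left.mp hd.2 zb a⟩⟩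
    rw [this]
    split_ifs with hcd
    · rw [Finset.inter_comm, Finset.disjoint_iff_inter_eq_empty.mp hcd, Finset.card_empty]
    · have hne : d ≠ c := fun e => hm (e ▸ hd.2)
      rcases h.inter_card hd.1 hc hne with h0 | h2
      · exact absurd (Finset.disjoint_iff_inter_eq_empty.mpr
          (by rw [Finset.inter_comm]; exact Finset.card_eq_zero.mp h0)) hcd
      · exact h2
  rw [Finset.sum_congr rfl key, Finset.sum_ite, Finset.sum_const, Finset.sum_const] at e
  have split := Finset.card_filter_add_card_filter_not (s := D) (Disjoint c)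
  rw [h.disjoint_count hb] at split
  have hcnt : (F.filter fun d => Disjoint b d ∧ Disjoint c d).card =
      (D.filter (Disjoint c)).card := by rw [hD, Finset.filter_filter]
  simp only [smul_eq_mul] at e
  omega

end Data

end Cfsg.Agent.Lib.Steiner22
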